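import Cfsg.Agent.Lib.Helper5.F7.H15.FrCS

/-!
# CORE13 (S5679 + S5696), block G: G1 `rt_of_transU`, G2 `win3_of_one` (helper4)
-/

set_option autoImplicit false
set_option linter.unusedSectionVars false
set_option linter.unusedVariables false

namespace Cfsg.Agent.Lib.Helper5.F7.H4.FrCLeaf

open Module QuadraticMap Matrix Cfsg.Agent.Lib.Helper25.CD Cfsg.Agent.Lib.Helper25.Spin
  Cfsg.Agent.Lib.Helper5.NSMax Cfsg.Agent.Lib.Helper5.PairMax Cfsg.Agent.Lib.Helper17.OC2
  Cfsg.Agent.Lib.Helper29.FrStd Cfsg.Agent.Lib.Helper11.Mono Cfsg.Agent.Lib.Helper5.F7.H17.FrC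
  Cfsg.Agent.Lib.Helper5.F7.H15.FrCLeaf

variable {κ : Type} [Fintype κ] [DecidableEq κ] {F : Type*} [Field F] [Fintype F]
  {c : F} {M : Subgroup ↥(Cfsg.isometryGroup F ⇑(stdQ κ F c))}

/-- G1. -/
theorem rt_of_transU (h : Ctx c M) {U : Submodule F (κ → F)} (hU : TransU c M U) {u v : κ → F} (hu : u ∈ U)
    (hv : v ∈ U) (hru : Rt c M u) (hv1 : v ⬝ᵥ v = 1) : Rt c M v := by
  obtain ⟨g, hg, hguv, _⟩ := hU u hu v hv (by rw [hru.1, hv1]) (by rw [hru.1]; exact one_ne_zero)
  rw [← hguv]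
  exact rt_conj h hg hru

/-- an even permutation mapping a given 3-set onto another one -/
lemma exists_even_perm (hκ : Fintype.card κ = 7) {T T' : Finset κ} (hT : T.card = 3) (hT' : T'.card = 3) :
    ∃ σ : Equiv.Perm κ, Equiv.Perm.sign σ = 1 ∧ ∀ l, l ∈ T' ↔ σ l ∈ T := by
  classical
  -- a permutation with `σ '' T' = T`
  have h1 : Fintype.card {x // x ∈ T'} = Fintype.card {x // x ∈ T} := by
    rw [Fintype.card_coe, Fintype.card_coe, hT, hT']
  have h2 : Fintype.card {x // x ∉ T'} = Fintype.card {x // x ∉ T} := by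
    have e1 := Fintype.card_subtype_compl (fun x => x ∈ T')
    have e2 := Fintype.card_subtype_compl (fun x => x ∈ T)
    rw [e1, e2, h1]
  obtain ⟨f1⟩ := Fintype.card_eq.1 h1
  obtain ⟨f2⟩ := Fintype.card_eq.1 h2
  obtain ⟨σ₀, hσ₀⟩ : ∃ σ₀ : Equiv.Perm κ, ∀ l, l ∈ T' ↔ σ₀ l ∈ T := by
    refine ⟨(Equiv.sumCompl (fun x => x ∈ T')).symm.trans
      ((Equiv.sumCongr f1 f2).trans (Equiv.sumCompl (fun x => x ∈ T))), fun l => ?_⟩
    by_cases hl : l ∈ T'
    · simp only [Equiv.trans_apply, hl, true_iff]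
      rw [Equiv.sumCompl_symm_apply_of_pos (p := fun x => x ∈ T') hl]
      simp only [Equiv.sumCongr_apply, Sum.map_inl, Equiv.sumCompl_apply_inl]
      exact (f1 ⟨l, hl⟩).2
    · simp only [Equiv.trans_apply, hl, false_iff]
      rw [Equiv.sumCompl_symm_apply_of_neg (p := fun x => x ∈ T') hl]
      simp only [Equiv.sumCongr_apply, Sum.map_inr, Equiv.sumCompl_apply_inr]
      exact (f2 ⟨l, hl⟩).2
  rcases Int.units_eq_one_or (Equiv.Perm.sign σ₀) with hs | hs
  · exact ⟨σ₀, hs, hσ₀⟩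
  · -- compose with a transposition inside `T`
    obtain ⟨a, b, hab, haT, hbT⟩ : ∃ a b, a ≠ b ∧ a ∈ T ∧ b ∈ T := by
      have h1T : 1 < T.card := by rw [hT]; norm_num
      obtain ⟨a, ha, b, hb, hab⟩ := Finset.one_lt_card.1 h1T
      exact ⟨a, b, hab, ha, hb⟩
    refine ⟨Equiv.swap a b * σ₀, ?_, fun l => ?_⟩
    · rw [Equiv.Perm.sign_mul, Equiv.Perm.sign_swap hab, hs]
      rfl
    · rw [hσ₀ l, Equiv.Perm.mul_apply]
      constructor
      · intro hl
        by_cases h1 : σ₀ l = a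
        · rw [h1, Equiv.swap_apply_left]; exact hbT
        · by_cases h2 : σ₀ l = b
          · rw [h2, Equiv.swap_apply_right]; exact haT
          · rw [Equiv.swap_apply_of_ne_of_ne h1 h2]; exact hl
      · intro hl
        by_cases h1 : σ₀ l = a
        · rw [h1]; exact haT
        · by_cases h2 : σ₀ l = b
          · rw [h2]; exact hbT
          · rw [Equiv.swap_apply_of_ne_of_ne h1 h2] at hl; exact hl

/-- G2. -/
theorem win3_of_one (h : Ctx c M) {T : Finset κ} (hT : T.card = 3) (hU : TransU c M (VT T)) : Win3 c M := by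
  classical
  intro T' hT'
  obtain ⟨σ, hσ, hσT⟩ := exists_even_perm h.card hT hT'
  obtain ⟨p, hpM, hp⟩ := perm_mem h σ hσ
  -- `p` maps `VT T` onto `VT T'`
  have hpinv : ∀ x : κ → F, toOG (stdQ κ F c) p⁻¹ x = x ∘ σ.symm := by
    intro x
    have e1 : toOG (stdQ κ F c) p (x ∘ σ.symm) = x := by
      rw [hp]
      funext l
      simp
    have e2 : toOG (stdQ κ F c) p⁻¹ (toOG (stdQ κ F c) p (x ∘ σ.symm)) = x ∘ σ.symm := by
      rw [← LinearEquiv.mul_apply, ← map_mul, inv_mul_cancel, map_one]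
      rfl
    rw [e1] at e2
    exact e2
  have hdot : ∀ x y : κ → F, (x ∘ σ.symm) ⬝ᵥ (y ∘ σ.symm) = x ⬝ᵥ y := by
    intro x y
    unfold dotProduct
    exact Equiv.sum_comp σ.symm (fun l => x l * y l)
  have hmemT : ∀ x : κ → F, x ∈ VT T' → x ∘ σ.symm ∈ VT T := by
    intro x hx l hl
    rw [Function.comp_apply]
    apply hx
    intro hl'
    apply hl
    have := (hσT (σ.symm l)).1 hl'
    rwa [Equiv.apply_symm_apply] at this
  intro u hu v hv huv hu0
  obtain ⟨g, hg, hguv, hgfix⟩ := hU (u ∘ σ.symm) (hmemT u hu) (v ∘ σ.symm) (hmemT v hv)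
    (by rw [hdot, hdot, huv]) (by rw [hdot]; exact hu0)
  refine ⟨p * g * p⁻¹, M.mul_mem (M.mul_mem hpM hg) (M.inv_mem hpM), ?_, ?_⟩
  · rw [map_mul, map_mul, LinearEquiv.mul_apply, LinearEquiv.mul_apply, hpinv, hguv, hp]
    funext l
    simp
  · intro w hw
    rw [map_mul, map_mul, LinearEquiv.mul_apply, LinearEquiv.mul_apply, hpinv, hgfix, hp]
    · funext l
      simp
    · intro x hx
      have hx' : x ∘ σ ∈ VT T' := by
        intro l hl
        rw [Function.comp_apply]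
        apply hx
        intro hl'
        exact hl ((hσT l).2 hl')
      have := hw (x ∘ σ) hx'
      rw [← hdot] at this
      have e3 : (x ∘ σ) ∘ σ.symm = x := by
        funext l
        simp
      rw [e3] at this
      exact this

end Cfsg.Agent.Lib.Helper5.F7.H4.FrCLeaf
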